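import Groth.Agent.ProjDegLib.Chart
import Groth.Agent.TwistLib.CoordGen
import Groth.Agent.AmpleDevLib.Pull
import Groth.Agent.PicPnLib.Twist

/-!
# Points of projective space over a field and forms vanishing at them
-/

set_option autoImplicit false
set_option linter.style.haveILetI false
universe u

open CategoryTheory AlgebraicGeometry TopologicalSpace Opposite
open GradedCechLib ProjDegLib
open KFlatLib (puSec pb)

noncomputable section

namespace PtBoundLib

variable (n : ℕ) (k : Type u) [Field k]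

/-- The nonvanishing locus of a form in a chart. -/
theorem basicOpen_deh {s : ℕ} (hs : 0 < s) {F : MvPolynomial (Fin (n + 1)) k} (hF : F.IsHomogeneous s)
    (i : Fin (n + 1)) :
    (CohB1.ProjSpace n k).basicOpen (deh n k i F) =
      QCohLib.stdOpen n k i ⊓ Proj.basicOpen (CohB1.polyGrading n k) F := by
  let ι := Proj.awayι (CohB1.polyGrading n k) (MvPolynomial.X i : Poly n k) (X_mem n k i) one_pos
  have hrange : ι.opensRange = QCohLib.stdOpen n k i := Proj.opensRange_awayι _ _ _ _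
  have hm : F ∈ CohB1.polyGrading n k s := (MvPolynomial.mem_homogeneousSubmodule _ _).2 hF
  have key : ι ⁻¹ᵁ (CohB1.ProjSpace n k).basicOpen (deh n k i F) =
      ι ⁻¹ᵁ Proj.basicOpen (CohB1.polyGrading n k) F := by
    have h1 := Scheme.basicOpen_appLE (chartι n k i) ⊤ (QCohLib.stdOpen n k i)
      (chartι_le n k i) (deh n k i F)
    rw [top_inf_eq] at h1
    erw [awayι_appLE_deh, basicOpen_eq_of_affine'] at h1
    refine h1.symm.trans (Eq.trans ?_ (Proj.awayι_preimage_basicOpen (CohB1.polyGrading n k) (X_mem n k i) one_pos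
      hm hs).symm)
    congr 1
    rw [Iso.inv_hom_id_apply]
    refine HomogeneousLocalization.val_injective _ ?_
    rw [val_deh₀_homogeneous n k i F s hF]
    simp [HomogeneousLocalization.Away.val_mk, xpw]
  refine le_antisymm (fun x hx => ?_) (fun x hx => ?_)
  · have hxi : x ∈ ι.opensRange := hrange ▸ (CohB1.ProjSpace n k).basicOpen_le _ hx
    obtain ⟨y, rfl⟩ := hxi
    exact ⟨(CohB1.ProjSpace n k).basicOpen_le _ hx,
      (key.le (show y ∈ ι ⁻¹ᵁ _ from hx) : y ∈ ι ⁻¹ᵁ Proj.basicOpen (CohB1.polyGrading n k) F)⟩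
  · obtain ⟨y, rfl⟩ := (hrange ▸ hx.1 : x ∈ ι.opensRange)
    exact (key.ge (show y ∈ ι ⁻¹ᵁ _ from hx.2) : y ∈ ι ⁻¹ᵁ (CohB1.ProjSpace n k).basicOpen (deh n k i F))

theorem notMem_basicOpen_iff_pr {a : Fin (n + 1)} {y : CohB1.ProjSpace n k} (hy : y ∈ QCohLib.stdOpen n k a)
    (r : Γ(CohB1.ProjSpace n k, QCohLib.stdOpen n k a)) :
    y ∉ (CohB1.ProjSpace n k).basicOpen r ↔ r ∈ pr n k hy := by
  rw [Scheme.mem_basicOpen _ _ _ hy, ← mem_nonunits_iff, ← IsLocalRing.mem_maximalIdeal]
  exact germ_mem_maximalIdeal_iff n k hy r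

/-- A linear form generates exactly where it does not vanish. -/
theorem genAt_sec_iff (c : Fin (n + 1) → k) (y : CohB1.ProjSpace n k) :
    AmpleLib.GenAt (O1 n k) (sec n k c) (show y ∈ (⊤ : (CohB1.ProjSpace n k).Opens) from trivial) ↔
      ¬ Van n k c y := by
  obtain ⟨a, ha⟩ := exists_chart n k y
  rw [← AmpleLib.genAt_res (le_top : QCohLib.stdOpen n k a ≤ ⊤) (sec n k c) ha, res_sec,
    AmpleLib.genAt_smul_iff _ _ ha (genAt_coord n k ha), van_iff_pr n k ha, ← notMem_basicOpen_iff_pr n k ha,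
    not_not]

variable [IsAlgClosed k]

/-- Homogeneous coordinates of a closed point, normalised at a chart. -/
theorem exists_coord {y : CohB1.ProjSpace n k} (hc : IsClosed ({y} : Set (CohB1.ProjSpace n k))) :
    ∃ (a : Fin (n + 1)) (x : Fin (n + 1) → k), x a = 1 ∧
      (∀ c : Fin (n + 1) → k, Van n k c y ↔ ∑ i, c i * x i = 0) ∧
      ∀ (s : ℕ) (F : MvPolynomial (Fin (n + 1)) k), 0 < s → F.IsHomogeneous s →
        (y ∈ Proj.basicOpen (CohB1.polyGrading n k) F ↔ MvPolynomial.eval x F ≠ 0) := by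
  obtain ⟨a, ha⟩ := exists_chart n k y
  have := pr_isMaximal n k ha hc
  have hmax : ((pr n k ha).comap (deh n k a)).IsMaximal :=
    Ideal.comap_isMaximal_of_surjective _ (deh_surjective n k a)
  obtain ⟨x, hx⟩ := MvPolynomial.isMaximal_iff_eq_vanishingIdeal_singleton.1 hmax
  have hmem : ∀ q, deh n k a q ∈ pr n k ha ↔ MvPolynomial.eval x q = 0 := fun q => by
    rw [← Ideal.mem_comap, hx, MvPolynomial.mem_vanishingIdeal_singleton_iff]
    rfl
  have hxa : x a = 1 := by
    have := (hmem (MvPolynomial.X a - 1)).1 (by rw [map_sub, map_one, deh_X_self, sub_self]; exact zero_mem _)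
    simpa [sub_eq_zero] using this
  refine ⟨a, x, hxa, fun c => ?_, fun s F hs hF => ?_⟩
  · rw [van_iff_pr n k ha, L, hmem]
    simp [form]
  · rw [ne_eq, ← hmem, ← notMem_basicOpen_iff_pr n k ha, not_not, basicOpen_deh n k hs hF]
    exact ⟨fun h => ⟨ha, h⟩, fun h => h.2⟩

omit [IsAlgClosed k] in
theorem appTop_toGlobal (s : Spec (CommRingCat.of k) ⟶ CohB1.ProjSpace n k)
    (hs : s ≫ CohB1.ProjSpace.toSpec n k = 𝟙 _) (r : k) :
    s.appTop (ProjUP.toGlobal (CohB1.ProjSpace.toSpec n k) r) = (Scheme.ΓSpecIso (CommRingCat.of k)).inv r := by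
  change s.appTop ((CohB1.ProjSpace.toSpec n k).appTop _) = _
  rw [← CommRingCat.comp_apply, ← Scheme.Hom.comp_appTop, hs]
  rfl

omit [IsAlgClosed k] in
/-- The relations of a point are the linear forms vanishing there. -/
theorem mem_secKernel_iff (s : Spec (CommRingCat.of k) ⟶ CohB1.ProjSpace n k)
    (hs : s ≫ CohB1.ProjSpace.toSpec n k = 𝟙 _) (c : Fin (n + 1) → k) (p : Spec (CommRingCat.of k)) :
    c ∈ ProjUP.secKernel n k s ↔ Van n k c (s p) := by
  have hL : PicF.IsInvertible (O1 n k) := PicPnLib.twist_inv n k 1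
  let σ : Γ(pb s (O1 n k), ⊤) := puSec s (sec n k c)
  have h1 : c ∈ ProjUP.secKernel n k s ↔ σ = 0 := by
    have e : σ = ∑ i, (Scheme.ΓSpecIso (CommRingCat.of k)).inv (c i) •
        (show Γ(pb s (O1 n k), ⊤) from puSec s (show Γ(O1 n k, ⊤) from ProjUP.coord n k i)) := by
      let f : Γ(O1 n k, ⊤) →+ Γ(pb s (O1 n k), ⊤) :=
        (((Scheme.Modules.pullbackPushforwardAdjunction s).unit.app (O1 n k)).app ⊤).hom
      change f (sec n k c) = _
      rw [sec, map_sum]
      refine Finset.sum_congr rfl fun i _ => ?_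
      refine (TwistLib.puSec_smul s (U := ⊤) _ _).trans ?_
      exact congrArg (fun r : Γ(Spec (CommRingCat.of k), ⊤) => r • (show Γ(pb s (O1 n k), ⊤) from puSec s (show Γ(O1 n k, ⊤) from ProjUP.coord n k i)))
        (appTop_toGlobal n k s hs (c i))
    rw [e]
    exact Iff.rfl
  rw [h1]
  have h2 : AmpleLib.GenAt (pb s (O1 n k)) σ (show p ∈ (⊤ : (Spec (CommRingCat.of k)).Opens) from trivial) ↔
      ¬ Van n k c (s p) := by
    rw [← genAt_sec_iff]
    exact (SetLike.ext_iff.1 (AmpleDevLib.genSet_puSec s hL (sec n k c)) p)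
  rw [← not_iff_not, ← h2]
  constructor
  · intro hne
    obtain ⟨j, hj⟩ := TwistLib.exists_genAt_coord n k s p
    let e : Γ(pb s (O1 n k), ⊤) := puSec s (show Γ(O1 n k, ⊤) from ProjUP.coord n k j)
    have he : AmpleLib.GenOn (pb s (O1 n k)) e := TwistLib.genOn_of_genAt fun z hz => by
      rw [show z = p from Subsingleton.elim z p] at hz ⊢
      exact hj
    obtain ⟨b, hb⟩ := (he ⊤ le_rfl).2 σ
    dsimp only at hb
    rw [AmpleLib.res_refl] at hb
    have hb0 : b ≠ 0 := fun h => hne (by rw [← hb, h, zero_smul])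
    rw [← hb, AmpleLib.genAt_smul_iff b e trivial hj]
    have hu : IsUnit b := by
      let ψ := (Scheme.ΓSpecIso (CommRingCat.of k)).commRingCatIsoToRingEquiv
      exact (MulEquiv.isUnit_map ψ.toMulEquiv).1 (isUnit_iff_ne_zero.2 fun h => hb0 (ψ.injective (h.trans (map_zero ψ).symm)))
    rw [Scheme.basicOpen_of_isUnit _ hu]
    trivial
  · intro hg h0
    rw [h0] at hg
    exact one_ne_zero (hg.1 (a₁ := (1 : (Spec (CommRingCat.of k)).presheaf.stalk p)) (a₂ := 0) (by simp))

variable {n k}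

/-- A point lies on a hypersurface in terms of any vector cutting out its relations. -/
theorem hyp_iff (s : Spec (CommRingCat.of k) ⟶ CohB1.ProjSpace n k)
    (hs : s ≫ CohB1.ProjSpace.toSpec n k = 𝟙 _) (p : Spec (CommRingCat.of k))
    (hp : IsClosed ({s p} : Set (CohB1.ProjSpace n k))) {d : ℕ} (hd : 0 < d)
    {F : MvPolynomial (Fin (n + 1)) k} (hF : F.IsHomogeneous d) :
    (∃ v : Fin (n + 1) → k, v ≠ 0 ∧
        (∀ c : Fin (n + 1) → k, c ∈ ProjUP.secKernel n k s ↔ ∑ i, c i * v i = 0) ∧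
        MvPolynomial.eval v F = 0) ↔ s p ∉ Proj.basicOpen (CohB1.polyGrading n k) F := by
  obtain ⟨a, x, hxa, hc, hpoly⟩ := exists_coord n k hp
  rw [hpoly d F hd hF, not_not]
  refine ⟨fun ⟨v, hv, hker, hev⟩ => ?_, fun h => ⟨x, fun h0 => ?_, fun c => ?_, h⟩⟩
  · classical
    have hvx : v = v a • x := by
      funext i
      have h1 : (Pi.single i 1 - x i • Pi.single a 1 : Fin (n + 1) → k) ∈ ProjUP.secKernel n k s := by
        rw [mem_secKernel_iff n k s hs _ p, hc]
        simp [sub_mul, Finset.sum_sub_distrib, Pi.single_apply, hxa]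
      have h2 := (hker _).1 h1
      simp [sub_mul, Finset.sum_sub_distrib, Pi.single_apply, mul_assoc] at h2
      rw [Pi.smul_apply, smul_eq_mul, mul_comm]
      exact sub_eq_zero.1 h2
    have hva : v a ≠ 0 := fun h => hv (hvx.trans (by rw [h, zero_smul]))
    have hh : MvPolynomial.eval v F = (v a) ^ d * MvPolynomial.eval x F := by
      rw [hvx, MvPolynomial.eval_eq, MvPolynomial.eval_eq, Finset.mul_sum]
      refine Finset.sum_congr rfl fun e he => ?_
      simp only [Pi.smul_apply, smul_eq_mul, mul_pow, Finset.prod_mul_distrib, hxa, mul_one,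
        Finset.prod_pow_eq_pow_sum]
      have hdeg : ∑ i ∈ e.support, e i = d := by
        by_contra hne
        exact MvPolynomial.mem_support_iff.1 he (hF.coeff_eq_zero hne)
      rw [hdeg]
      ring
    rw [hh] at hev
    exact (mul_eq_zero.1 hev).resolve_left (pow_ne_zero _ hva)
  · have := congrFun h0 a
    rw [hxa] at this
    exact one_ne_zero this
  · rw [mem_secKernel_iff n k s hs c p, hc]

end PtBoundLib

end
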