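import Groth.Agent.IntFunLib.StrictNef
import Groth.Agent.AmpleDevLib.Pull

/-!
# Sections through finitely many points bound their number by intersection numbers
-/

set_option autoImplicit false
set_option linter.style.haveILetI false
set_option maxHeartbeats 800000
universe u

open CategoryTheory CategoryTheory.Limits AlgebraicGeometry TopologicalSpace Opposite
open HilbPolyLib DevissLib IntMultLib IntFunLib
open KFlatLib (pb puSec)
open TwistLib (genSet)

noncomputable section

namespace PtBoundLib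

variable {k : Type u} [Field k] {X : Scheme.{u}} [X.Over (Spec (CommRingCat.of k))]
  [IsProper (X ↘ Spec (CommRingCat.of k))]

include k in
/-- Through every zero of a section passes a component of the zero locus of codimension one. -/
theorem exists_component [IsIntegral X] {r : ℕ} (hX : topologicalKrullDim X = ((r + 1 : ℕ) : WithBot ℕ∞))
    {N : X.Modules} (hN : PicF.IsInvertible N) (σ : Γ(N, ⊤)) {x : X} (hx : x ∉ genSet hN σ) :
    ∃ y : X, x ∈ closure ({y} : Set X) ∧ y ∉ genSet hN σ ∧
      ((r : ℕ) : WithBot ℕ∞) ≤ topologicalKrullDim (closure ({y} : Set X)) := by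
  let q := X ↘ Spec (CommRingCat.of k)
  obtain ⟨U, e, hxU', he⟩ := TwistLib.exists_genOn hN x
  obtain ⟨V, hV, hxV, hVU⟩ := Opens.isBasis_iff_nbhd.mp X.isBasis_affineOpens hxU'
  replace hV : IsAffineOpen V := hV
  haveI : Nonempty V := ⟨⟨x, hxV⟩⟩
  letI : Algebra k Γ(X, V) := ((q.appLE ⊤ V le_top).hom.comp
    (Scheme.ΓSpecIso (CommRingCat.of k)).inv.hom).toAlgebra
  haveI : Algebra.FiniteType k Γ(X, V) :=
    (q.finiteType_appLE (isAffineOpen_top _) hV le_top).comp (RingHom.FiniteType.of_surjective _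
      (ConcreteCategory.bijective_of_isIso (Scheme.ΓSpecIso (CommRingCat.of k)).inv).2)
  haveI : IsNoetherianRing Γ(X, V) := Algebra.FiniteType.isNoetherianRing k _
  have heV := he.res hVU
  let e' : Γ(N, V) := AmpleLib.res N hVU e
  obtain ⟨f, hf⟩ := (he V hVU).2 (AmpleLib.res N (le_top : V ≤ ⊤) σ)
  dsimp only at hf
  have hiff : ∀ (y : X) (hy : y ∈ V), y ∈ TwistLib.genSet hN σ ↔ f ∉ (hV.primeIdealOf ⟨y, hy⟩).asIdeal := by
    intro y hy
    rw [← AssPointLib.mem_basicOpen_iff hV hy f]
    refine Iff.trans ?_ (AmpleLib.genAt_smul_iff f e' hy (heV.genAt hy))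
    rw [hf]
    exact (AmpleLib.genAt_res (le_top : V ≤ ⊤) σ hy).symm
  have hfx : f ∈ (hV.primeIdealOf ⟨x, hxV⟩).asIdeal := not_not.mp fun h => hx ((hiff x hxV).mpr h)
  obtain ⟨p, hp, hpx⟩ := Ideal.exists_minimalPrimes_le (I := Ideal.span {f})
    ((Ideal.span_singleton_le_iff_mem _).mpr hfx)
  haveI := hp.1.1
  have hht : p.height ≤ 1 := Ideal.height_le_one_of_isPrincipal_of_mem_minimalPrimes _ p hp
  have hform := FibDimLib.ringKrullDim_quotient_add_height_affine (k := k) Γ(X, V) p
  have hdimA : ringKrullDim Γ(X, V) = ((r + 1 : ℕ) : WithBot ℕ∞) := by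
    have hgV : genericPoint X ∈ V := ((genericPoint_spec X).mem_open_set_iff V.2).mpr ⟨x, trivial, hxV⟩
    rw [← hX, ← (Homeomorph.Set.univ X).isHomeomorph.topologicalKrullDim_eq,
      ← (genericPoint_spec X).def, FibDimLib.topologicalKrullDim_closure_eq_affine q hV hgV]
    refine ringKrullDim_eq_of_ringEquiv ((RingEquiv.quotientBot _).symm.trans (Ideal.quotEquivOfEq ?_))
    refine (eq_bot_iff.mpr fun a ha => ?_).symm
    by_contra hne
    have hne' : ((X.basicOpen a : X.Opens) : Set X).Nonempty := by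
      by_contra hc
      exact hne (eq_zero_of_basicOpen_eq_bot a (Opens.ext (Set.not_nonempty_iff_eq_empty.mp hc)))
    exact ((AssPointLib.mem_basicOpen_iff hV hgV a).mp
      (((genericPoint_spec X).mem_open_set_iff (X.basicOpen a).2).mpr (by simpa using hne'))) ha
  let y : X := hV.fromSpec ⟨p, hp.1.1⟩
  have hyV : y ∈ V := hV.range_fromSpec.le ⟨_, rfl⟩
  have hpy : hV.primeIdealOf ⟨y, hyV⟩ = ⟨p, hp.1.1⟩ :=
    hV.fromSpec.isOpenEmbedding.injective (hV.fromSpec_primeIdealOf ⟨y, hyV⟩)
  have hyG : y ∉ TwistLib.genSet hN σ := fun h =>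
    (hiff y hyV).mp h (by rw [hpy]; exact hp.1.2 (Ideal.mem_span_singleton_self f))
  refine ⟨y, ?_, hyG, ?_⟩
  · have hs := ((PrimeSpectrum.le_iff_specializes ⟨p, hp.1.1⟩ (hV.primeIdealOf ⟨x, hxV⟩)).mp hpx).map
      hV.fromSpec.continuous
    rw [hV.fromSpec_primeIdealOf ⟨x, hxV⟩] at hs
    exact specializes_iff_mem_closure.mp hs
  rw [FibDimLib.topologicalKrullDim_closure_eq_affine q hV hyV, hpy]
  rw [hdimA] at hform
  change ((r : ℕ) : WithBot ℕ∞) ≤ ringKrullDim (Γ(X, V) ⧸ p)
  revert hform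
  generalize ringKrullDim (Γ(X, V) ⧸ p) = t
  intro hform
  induction t with
  | bot => rw [WithBot.bot_add] at hform; exact absurd hform (WithBot.bot_ne_natCast _)
  | coe a =>
    induction a with
    | top => exact le_top
    | coe m =>
      obtain ⟨h', hh', hle⟩ : ∃ h' : ℕ, p.height = (h' : ℕ∞) ∧ h' ≤ 1 := by
        obtain ⟨h', hh'⟩ := ENat.ne_top_iff_exists.mp (ne_top_of_le_ne_top ENat.one_ne_top hht)
        exact ⟨h', hh'.symm, by rw [← hh'] at hht; exact_mod_cast hht⟩
      rw [hh'] at hform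
      have : m + h' = r + 1 := by exact_mod_cast hform
      exact_mod_cast (show r ≤ m by omega)

include k in
theorem eq_of_dim_zero {ξ z : X} (hξ : topologicalKrullDim (closure ({ξ} : Set X)) = ((0 : ℕ) : WithBot ℕ∞))
    (hz : z ∈ closure ({ξ} : Set X)) : z = ξ := by
  haveI := CurvLib.isNoetherian k (X := X)
  refine (eq_of_specializes_of_dim isClosed_closure hξ.le (le_antisymm ?_ ?_) (subset_closure rfl)
    (specializes_iff_mem_closure.mpr hz)).symm
  · exact (dim_mono (closure_minimal (Set.singleton_subset_iff.mpr hz) isClosed_closure)).trans hξ.le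
  · exact nonneg_dim ⟨z, subset_closure rfl⟩

/-- The step on an integral scheme. -/
theorem card_le_step [IsIntegral X] {d : ℕ} (hX : topologicalKrullDim X = ((d + 1 : ℕ) : WithBot ℕ∞))
    {P M : X.Modules} (hP : PicF.IsInvertible P) (hM : PicF.IsInvertible M) (σ : Γ(P, ⊤))
    (hσ : genericPoint X ∈ genSet hP σ) (S : Finset X) (hS : ∀ s ∈ S, s ∉ genSet hP σ)
    (htop : ∀ η : X, topologicalKrullDim (closure ({η} : Set X)) = (d : WithBot ℕ∞) →
      (Set.ncard ((S : Set X) ∩ closure {η}) : ℤ) ≤ N k (List.replicate d M) (Fpt η)) :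
    (S.card : ℤ) ≤ N k (P :: List.replicate d M) (Coh.structureModule X) := by
  classical
  haveI := CurvLib.isNoetherian k (X := X)
  have hO := DevissLib.isCoh_structureModule X
  have hMc : Coh.IsCoh P := CurvLib.isCoh_of_isInvertible hP
  set φ := QCohLib.unitHom P σ with hφdef
  have hφ : φ ≠ 0 := fun h0 => by
    have hσ0 : σ = 0 := by
      have h2 := congr_arg (fun ψ : Coh.structureModule X ⟶ P => ψ.app ⊤ (1 : Γ(X, ⊤))) h0
      change (QCohLib.unitHom P σ).app ⊤ (1 : Γ(X, ⊤)) = 0 at h2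
      rwa [QCohLib.unitHom_app, one_smul,
        show P.presheaf.map (homOfLE (le_top : ⊤ ≤ (⊤ : X.Opens))).op σ = σ from QCohLib.toSections_top P σ] at h2
    have hb : AmpleLib.GenAt P σ (show genericPoint X ∈ (⊤ : X.Opens) from trivial) := hσ
    subst hσ0
    refine one_ne_zero (hb.1 (a₁ := (1 : X.presheaf.stalk (genericPoint X))) (a₂ := 0) ?_)
    simp
  haveI : Mono φ := CurvLib.mono_of_ne_zero CurvLib.isInvertible_structureModule hP hφ
  let T : ShortComplex X.Modules := ShortComplex.mk φ (cokernel.π φ) (cokernel.condition φ)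
  have hT : T.ShortExact :=
    { exact := ShortComplex.exact_cokernel φ, mono_f := inferInstanceAs (Mono φ)
      epi_g := inferInstanceAs (Epi (cokernel.π φ)) }
  have hC : Coh.IsCoh (cokernel φ) := QCohLib.isCoh_cokernel φ hO.1 hMc
  have hl : ∀ A ∈ List.replicate d M, PicF.IsInvertible A := fun A hA => by
    rw [List.eq_of_mem_replicate hA]; exact hM
  have hlen : (List.replicate d M).length = d := List.length_replicate
  have h1 := N_add (k := k) hl hT hO hMc hC
  have hstep : N k (P :: List.replicate d M) (Coh.structureModule X) = N k (List.replicate d M) (cokernel φ) := by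
    rw [N, N_congr _ (show CohB1.tensorMod P (Coh.structureModule X) ≅ P from
      swapIso _ _ ≪≫ unitLeft _)]
    change N k _ T.X₂ - N k _ T.X₁ = N k _ T.X₃
    rw [h1]; ring
  rw [hstep]
  have hsupp : ∀ y, y ∉ genSet hP σ → y ∈ CohB1.support (cokernel φ) := by
    intro y hy hsub
    refine hy (IntMultLib.genAt_of_unitHom_surjective hP σ fun b => ?_)
    have hex := (ShortComplex.ShortExact.moduleCat_exact_iff_function_exact _).1
      (hT.map_of_exact (DerSch.stalkFunctor X y)).exact b
    exact hex.mp (@Subsingleton.elim _ hsub _ _)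
  have hcl := QCohLib.isClosed_support _ hC.2
  have hgenη : genericPoint X ∉ CohB1.support (cokernel φ) :=
    CurvLib.generic_notMem_support_cokernel CurvLib.isInvertible_structureModule hP hφ
  have hlt : topologicalKrullDim (CohB1.support (cokernel φ)) ≤ (d : ℕ) := by
    refine dim_le_iff.mp (dim_lt_of_notMem hcl (fun z _ => ?_) hgenη (Y := Set.univ) (Set.subset_univ _) ?_)
    · rw [(genericPoint_spec X).def]; exact trivial
    · exact ((topologicalKrullDim_subspace_le _ _).trans hX.le).trans_lt (by exact_mod_cast Nat.lt_succ_self (d + 1))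
  rcases S.eq_empty_or_nonempty with rfl | ⟨s₀, hs₀⟩
  · rw [Finset.card_empty]
    exact_mod_cast N_nonneg hl hC (by rw [hlen]; exact hlt) fun ξ _ hξ =>
      (Int.natCast_nonneg _).trans (htop ξ (by rw [hξ, hlen]))
  obtain ⟨U, hU, hfin, hsum⟩ := N_sum (k := k) hl hC ⟨s₀, hsupp s₀ (hS s₀ hs₀)⟩ (by rw [hlen]; exact hlt)
  rw [hsum]
  have hcov : S ⊆ U.biUnion fun η => S.filter (· ∈ closure ({η} : Set X)) := by
    intro s hs
    obtain ⟨y, hsy, hy, hyd⟩ := exists_component (k := k) hX hP σ (hS s hs)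
    refine Finset.mem_biUnion.mpr ⟨y, (hU y).mpr ⟨hsupp y hy, ?_⟩, Finset.mem_filter.mpr ⟨hs, hsy⟩⟩
    rw [hlen]
    exact le_antisymm ((dim_mono (closure_minimal (Set.singleton_subset_iff.mpr (hsupp y hy)) hcl)).trans hlt) hyd
  refine ((Int.ofNat_le.mpr ((Finset.card_le_card hcov).trans Finset.card_biUnion_le)).trans ?_)
  rw [Nat.cast_sum]
  refine Finset.sum_le_sum fun η hη => ?_
  have h2 : ((S.filter (· ∈ closure ({η} : Set X))).card : ℤ) ≤ N k (List.replicate d M) (Fpt η) := by
    refine le_of_eq_of_le ?_ (htop η (((hU η).mp hη).2.trans (by rw [hlen])))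
    rw [← Set.ncard_coe_finset, Finset.coe_filter]
    rfl
  refine h2.trans (le_of_eq_of_le (one_nsmul _).symm ?_)
  refine nsmul_le_nsmul_left ((Int.natCast_nonneg _).trans h2) (Nat.pos_of_ne_zero fun h => ?_)
  rcases ENat.toNat_eq_zero.mp h with h | h
  · exact ((hU η).mp hη).1 (Module.length_eq_zero_iff.mp h)
  · exact hfin η hη h

/-- **Sections through given points**: if at every point of positive dimension some section of `M` generates and
vanishes at the points of `S`, then `closure ξ` contains at most `(M ^ dim)` points of `S`. -/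
theorem ncard_le : ∀ (d : ℕ) (X : Scheme.{u}) [X.Over (Spec (CommRingCat.of k))]
    [IsProper (X ↘ Spec (CommRingCat.of k))] {M : X.Modules} (hM : PicF.IsInvertible M) (S : Finset X),
    (∀ η : X, ((1 : ℕ) : WithBot ℕ∞) ≤ topologicalKrullDim (closure ({η} : Set X)) →
      ∃ σ : Γ(M, ⊤), η ∈ genSet hM σ ∧ ∀ s ∈ S, s ∉ genSet hM σ) →
    ∀ ξ : X, topologicalKrullDim (closure ({ξ} : Set X)) = (d : WithBot ℕ∞) →
      (Set.ncard ((S : Set X) ∩ closure {ξ}) : ℤ) ≤ N k (List.replicate d M) (Fpt ξ)
  | 0, X, _, _, M, hM, S, _, ξ, hξ => by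
    haveI := CurvLib.isNoetherian k (X := X)
    have h : Set.ncard ((S : Set X) ∩ closure {ξ}) ≤ 1 := by
      refine (Set.ncard_le_ncard (t := {ξ}) (fun z hz => eq_of_dim_zero (k := k) hξ hz.2)
        (Set.finite_singleton _)).trans (Set.ncard_singleton _).le
    have h2 : 0 < Curv2.euler k X (Fpt ξ) :=
      euler_pos_of_dim_zero (coh_Fpt k ξ) (by rw [supp_Fpt k]; exact hξ)
    rw [List.replicate_zero, N]
    have h' : (Set.ncard ((S : Set X) ∩ closure {ξ}) : ℤ) ≤ 1 := by exact_mod_cast h
    omega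
  | d + 1, X, _, _, M, hM, S, hsec, ξ, hξ => by
    classical
    haveI := CurvLib.isNoetherian k (X := X)
    haveI := isIntegral_ptIdeal ξ
    let W := (ptIdeal ξ).subscheme
    let g : W ⟶ X := (ptIdeal ξ).subschemeι
    letI : W.Over (Spec (CommRingCat.of k)) := ⟨g ≫ (X ↘ Spec (CommRingCat.of k))⟩
    haveI : IsProper (W ↘ Spec (CommRingCat.of k)) :=
      inferInstanceAs (IsProper (g ≫ (X ↘ Spec (CommRingCat.of k))))
    have hW : topologicalKrullDim W = ((d + 1 : ℕ) : WithBot ℕ∞) := by
      rw [← hξ]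
      exact (g.isEmbedding.toHomeomorph.trans
        (Homeomorph.setCongr (range_ptIdeal ξ))).isHomeomorph.topologicalKrullDim_eq
    have hrfl : g ≫ (X ↘ Spec (CommRingCat.of k)) = W ↘ Spec (CommRingCat.of k) := rfl
    let S' : Finset W := S.preimage g g.isClosedEmbedding.injective.injOn
    have hsec' : ∀ η : W, ((1 : ℕ) : WithBot ℕ∞) ≤ topologicalKrullDim (closure ({η} : Set W)) →
        ∃ σ : Γ(pb g M, ⊤), η ∈ genSet (AmpleDevLib.isInvertible_pb g hM) σ ∧
          ∀ s ∈ S', s ∉ genSet (AmpleDevLib.isInvertible_pb g hM) σ := by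
      intro η hη
      obtain ⟨σ, hσ, hσS⟩ := hsec (g η) (by rw [IntFunLib.dim_closure_image g η]; exact hη)
      refine ⟨puSec g σ, by rw [AmpleDevLib.genSet_puSec g hM σ]; exact hσ, fun s hs h => ?_⟩
      rw [AmpleDevLib.genSet_puSec g hM σ] at h
      exact hσS _ (Finset.mem_preimage.mp hs) h
    have hgen : topologicalKrullDim (closure ({genericPoint W} : Set W)) = ((d + 1 : ℕ) : WithBot ℕ∞) := by
      rw [(genericPoint_spec W).def, (Homeomorph.Set.univ _).isHomeomorph.topologicalKrullDim_eq, hW]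
    obtain ⟨σ, hσ, hσS⟩ := hsec' (genericPoint W) (by rw [hgen]; exact_mod_cast Nat.succ_le_succ d.zero_le)
    have h0 := card_le_step (k := k) (X := W) hW _ (AmpleDevLib.isInvertible_pb g hM) σ hσ S' hσS
      (fun η hη => ncard_le d W (AmpleDevLib.isInvertible_pb g hM) S' hsec' η hη)
    have hl : ∀ A ∈ List.replicate (d + 1) M, PicF.IsInvertible A := fun A hA => by
      rw [List.eq_of_mem_replicate hA]; exact hM
    have h1 := N_push (k := k) hrfl hl (DevissLib.isCoh_structureModule W)
      ((topologicalKrullDim_subspace_le _ _).trans (by rw [hW, List.length_replicate]))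
    rw [List.map_replicate, List.replicate_succ] at h1
    rw [h1] at h0
    refine le_of_eq_of_le ?_ h0
    rw [← Set.ncard_coe_finset, Finset.coe_preimage, ← range_ptIdeal ξ]
    refine congrArg Nat.cast ?_
    rw [← Set.ncard_image_of_injective _ g.isClosedEmbedding.injective, Set.image_preimage_eq_inter_range]

end PtBoundLib

end
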