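import Groth.Agent.PtBoundLib.Main
import Groth.Prelude.Def_AgPol

/-!
# Torsion points of a projective abelian variety on hypersurfaces
-/

set_option autoImplicit false
set_option linter.all false
set_option backward.isDefEq.respectTransparency false
set_option backward.isDefEq.respectTransparency.types false
set_option maxHeartbeats 1000000
set_option synthInstance.maxHeartbeats 400000

universe u

open CategoryTheory CategoryTheory.Limits MonoidalCategory CartesianMonoidalCategory MonObj AlgebraicGeometry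
open AVAmpleLib (pt)
open KFlatLib (pb)

noncomputable section

namespace PtBoundLib

variable {k : Type u} [Field k] [IsAlgClosed k] {A : Scheme.{u}} [A.Over (Spec (CommRingCat.of k))]
  [GrpObj (A.asOver (Spec (CommRingCat.of k)))] [IsCommMonObj (A.asOver (Spec (CommRingCat.of k)))]
  {g : ℕ} (hA : AgPol.IsAbSch (A.asOver (Spec (CommRingCat.of k))) g) {m : ℕ} (φ : A ⟶ CohB1.ProjSpace m k)

omit [GrpObj (A.asOver (Spec (CommRingCat.of k)))] [IsCommMonObj (A.asOver (Spec (CommRingCat.of k)))] in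
include hA in
theorem rel_iff [IsClosedImmersion φ] (hφk : φ ≫ CohB1.ProjSpace.toSpec m k = A ↘ Spec (CommRingCat.of k))
    (x : 𝟙_ (Over (Spec (CommRingCat.of k))) ⟶ A.asOver (Spec (CommRingCat.of k))) :
    (∀ c : Fin (m + 1) → k, c ∈ ProjUP.secKernel m k (x.left ≫ φ) ↔
      φ (pt x) ∉ Proj.basicOpen (CohB1.polyGrading m k) (ProjDegLib.form m k c)) ∧
    ∀ (s : ℕ) (F : MvPolynomial (Fin (m + 1)) k), 0 < s → F.IsHomogeneous s →
      ((∃ v : Fin (m + 1) → k, v ≠ 0 ∧
        (∀ c : Fin (m + 1) → k, c ∈ ProjUP.secKernel m k (x.left ≫ φ) ↔ ∑ i, c i * v i = 0) ∧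
        MvPolynomial.eval v F = 0) ↔ φ (pt x) ∉ Proj.basicOpen (CohB1.polyGrading m k) F) := by
  haveI := hA.proper
  have hs : (x.left ≫ φ) ≫ CohB1.ProjSpace.toSpec m k = 𝟙 _ := by
    rw [Category.assoc, hφk]
    exact Over.w x
  have hc : IsClosed ({φ (pt x)} : Set (CohB1.ProjSpace m k)) := by
    have h := φ.isClosedEmbedding.isClosedMap _ (AlbLib.isClosed_pt x (IsLocalRing.closedPoint k))
    rw [Set.image_singleton] at h
    exact h
  refine ⟨fun c => ?_, fun s F hs0 hF => hyp_iff (x.left ≫ φ) hs (IsLocalRing.closedPoint k) hc hs0 hF⟩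
  obtain ⟨a, z, hza, hlin, hpoly⟩ := exists_coord m k hc
  have hform : (ProjDegLib.form m k c).IsHomogeneous 1 :=
    MvPolynomial.IsHomogeneous.sum _ _ _ fun i _ => MvPolynomial.isHomogeneous_C_mul_X _ _
  rw [mem_secKernel_iff m k (x.left ≫ φ) hs c (IsLocalRing.closedPoint k), hpoly 1 _ one_pos hform, not_not]
  refine (hlin c).trans ?_
  simp [ProjDegLib.form]

include hA in
/-- The bound. -/
theorem main [IsClosedImmersion φ] {L' : A.Modules}
    (hL' : ClSub.IsInverseOf L' ((Scheme.Modules.pullback φ).obj (Twist.twistProjSpace m k 1)))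
    {r : ℕ} (hr : FGA.intNum k A g (fun _ : Fin g => L') (Coh.structureModule A) = r)
    {s : ℕ} (F : MvPolynomial (Fin (m + 1)) k) (hF : F.IsHomogeneous s)
    (hnot : ∃ x : 𝟙_ (Over (Spec (CommRingCat.of k))) ⟶ A.asOver (Spec (CommRingCat.of k)),
      φ (pt x) ∈ Proj.basicOpen (CohB1.polyGrading m k) F) (n : ℕ) (hn : 1 ≤ n) :
    Nat.card {x : 𝟙_ (Over (Spec (CommRingCat.of k))) ⟶ A.asOver (Spec (CommRingCat.of k)) //
        x ^ n = 1 ∧ φ (pt x) ∉ Proj.basicOpen (CohB1.polyGrading m k) F} ≤ n ^ (2 * g - 2) * s * r ∧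
      (g = 0 → Nat.card {x : 𝟙_ (Over (Spec (CommRingCat.of k))) ⟶ A.asOver (Spec (CommRingCat.of k)) //
        x ^ n = 1 ∧ φ (pt x) ∉ Proj.basicOpen (CohB1.polyGrading m k) F} = 0) := by
  let B := A.asOver (Spec (CommRingCat.of k))
  letI : B.left.Over (Spec (CommRingCat.of k)) := ‹A.Over (Spec (CommRingCat.of k))›
  haveI := hA.smooth
  haveI := hA.proper
  haveI := hA.geomConnected
  haveI := AbSchLib.geometricallyReduced_of_smooth B.hom
  haveI := CubeConsLib.geometricallyIntegral_of_group B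
  haveI : IsIntegral B.left := GeometricallyIntegral.isIntegral_of_subsingleton B.hom
  haveI : IsIntegral A := ‹IsIntegral B.left›
  haveI : IsProper (A ↘ Spec (CommRingCat.of k)) := hA.proper
  have hg : topologicalKrullDim B.left = (g : ℕ) := dim_eq hA.fibreDim
  refine ⟨?_, fun h0 => card_eq_zero (A := B) (h0 ▸ hg) rfl φ _ hnot n⟩
  have hN : IntFunLib.N k (List.replicate g (pb φ (Twist.twistProjSpace m k 1))) (Coh.structureModule A) = (r : ℤ) := by
    rw [← GrowthLib.intNum_inv_self (AmpleDevLib.isInvertible_pb φ (PicPnLib.twist_inv m k 1)) hL' hg]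
    exact hr
  have h := card_le (A := B) hg rfl φ F hF hnot n hn
  have h' : (Nat.card {x : 𝟙_ (Over (Spec (CommRingCat.of k))) ⟶ A.asOver (Spec (CommRingCat.of k)) //
      x ^ n = 1 ∧ φ (pt x) ∉ Proj.basicOpen (CohB1.polyGrading m k) F} : ℤ) ≤ (n : ℤ) ^ (2 * g - 2) * s * (r : ℤ) :=
    h.trans (le_of_eq (congrArg _ hN))
  exact_mod_cast h'

end PtBoundLib

end
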