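import Groth.Agent.TraceIntLib.Main
import Groth.Agent.GrowthLib.Nef

/-!
# Intersection numbers with pullbacks along multiplication by integers
-/

set_option autoImplicit false
set_option linter.all false
set_option backward.isDefEq.respectTransparency false
set_option backward.isDefEq.respectTransparency.types false
set_option maxRecDepth 8000
set_option maxHeartbeats 1000000
set_option synthInstance.maxHeartbeats 400000

universe u

open CategoryTheory CategoryTheory.Limits MonoidalCategory CartesianMonoidalCategory MonObj AlgebraicGeometry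
open CubeConsLib AVAmpleLib TraceIntLib
open scoped Nat

noncomputable section

namespace PtBoundLib

attribute [local instance] grpBc commBc proper_bc gi_bc

/-- The coefficient of `y z^g` of a form restricting to `(y + a z)^(g+1) c` on the plane `x = 0`. -/
theorem coeff_mix_of_values (g : ℕ) (T : MvPolynomial (Fin 3) ℚ) (hT : T.IsHomogeneous (g + 1)) (a c : ℚ)
    (h : ∀ y : ℕ, MvPolynomial.eval ![0, (y : ℚ), 1] T = ((y : ℚ) + a) ^ (g + 1) * c) :
    T.coeff (mix g) = (g + 1 : ℕ) * a ^ g * c := by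
  classical
  let U : Polynomial ℚ := MvPolynomial.aeval ![(0 : Polynomial ℚ), Polynomial.X, 1] T
  have hU : ∀ y : ℚ, U.eval y = MvPolynomial.eval ![0, y, 1] T := fun y => by
    show Polynomial.evalRingHom y (MvPolynomial.aeval _ T) = _
    rw [MvPolynomial.aeval_def, MvPolynomial.eval₂_comp_left,
      show (Polynomial.evalRingHom y).comp (algebraMap ℚ (Polynomial ℚ)) = RingHom.id ℚ from
        RingHom.ext fun q => by simp, MvPolynomial.eval₂_id]
    congr 2
    funext i
    fin_cases i <;> simp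
  have hUV : U = (Polynomial.X + Polynomial.C a) ^ (g + 1) * Polynomial.C c := by
    refine Polynomial.eq_of_infinite_eval_eq _ _ (Set.infinite_of_injective_forall_mem
      (f := fun n : ℕ => (n : ℚ)) Nat.cast_injective fun y => ?_)
    show _ = _
    rw [hU, h]
    simp
  have h1 : U.coeff 1 = T.coeff (mix g) := by
    show (MvPolynomial.aeval ![(0 : Polynomial ℚ), Polynomial.X, 1] T).coeff 1 = _
    conv_lhs => rw [T.as_sum]
    rw [map_sum, Polynomial.finsetSum_coeff, Finset.sum_eq_single (mix g)]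
    · obtain ⟨h0, h1, h2⟩ := (eq_mix_iff (mix g) g).1 rfl
      rw [MvPolynomial.aeval_monomial, Finsupp.prod_fintype _ _ (fun i => pow_zero _), Fin.prod_univ_three]
      simp [h0, h1, h2]
    · intro u hu hne
      have hd : u 0 + u 1 + u 2 = g + 1 := by
        rw [← degree_three, Finsupp.degree_eq_weight_one]
        exact hT (MvPolynomial.mem_support_iff.1 hu)
      rw [MvPolynomial.aeval_monomial, Finsupp.prod_fintype _ _ (fun i => pow_zero _), Fin.prod_univ_three]
      by_cases h0 : u 0 = 0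
      swap
      · simp [zero_pow h0]
      simp only [Matrix.cons_val_zero, Matrix.cons_val_one, Matrix.cons_val, h0, pow_zero, one_pow, one_mul, mul_one,
        Polynomial.algebraMap_eq, Polynomial.coeff_C_mul]
      rw [_root_.one_mul, _root_.mul_one, Polynomial.coeff_X_pow, if_neg, mul_zero]
      intro h
      exact hne ((eq_mix_iff u g).2 ⟨h0, h.symm, by omega⟩)
    · intro h
      simp [MvPolynomial.notMem_support_iff.1 h]
  rw [← h1, hUV, Polynomial.coeff_mul_C, Polynomial.coeff_X_add_C_pow, Nat.choose_one_right, Nat.add_sub_cancel]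
  ring

variable {k : Type u} [Field k] {A : Over (Spec (CommRingCat.of k))} [GrpObj A] [IsCommMonObj A] [IsProper A.hom]
  [GeometricallyIntegral A.hom] [IsIntegral A.left] [LocallyOfFinitePresentation A.hom] [Flat A.hom]
  {g : ℕ} (hg : topologicalKrullDim A.left = (g : ℕ)) {L : A.left.Modules} (hL : PicF.IsInvertible L)

include hg in
/-- The top self-intersection on the plane of `L` and `[n]^* L`. -/
theorem top_plane (n y z : ℤ) :
    top A g (y • -clA hL + z • -P hL (𝟙 A ^ n)) = ((y + z * (n * n) : ℤ) : ℚ) ^ g * top A g (-clA hL) := by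
  letI : CommGroup (A ⟶ A) := Hom.commGroup
  let H := clA hL
  let H' := P hL (𝟙 A)⁻¹
  have hid : P hL (𝟙 A) = H := P_id hL
  obtain ⟨hi1, hi2⟩ := two_P hL (𝟙 A)
  rw [hid] at hi1 hi2
  have hH : H ∈ clRange A := hid ▸ P_mem hL _
  have hH' : H' ∈ clRange A := P_mem hL _
  have hP : (2 : ℤ) • P hL (𝟙 A ^ n) = (n * n) • (H + H') + n • (H - H') := by
    rw [zpow_formula hL (𝟙 A) n, P_zero hL, smul_zero, add_zero, hid, smul_add, smul_smul, smul_smul,
      Int.mul_ediv_cancel' (Int.even_mul_succ_self n).two_dvd, Int.mul_ediv_cancel' (Int.even_mul_pred_self n).two_dvd]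
    show _ = (n * n) • (H + H') + n • (H - H')
    module
  have hs4 : ∀ c : ℤ, two A (c • (H + H')) = (4 : ℤ) • (c • (H + H')) := fun c => by
    rw [map_zsmul, map_add, hi1, hi2]
    show c • ((3 : ℤ) • H + H' + ((3 : ℤ) • H' + H)) = _
    module
  have ha2 : ∀ c : ℤ, two A (c • (H - H')) = (2 : ℤ) • (c • (H - H')) := fun c => by
    rw [map_zsmul, map_sub, hi1, hi2]
    show c • ((3 : ℤ) • H + H' - ((3 : ℤ) • H' + H)) = _
    module
  have key : ∀ a b : ℤ, top A g (a • (H + H') + b • (H - H')) = top A g (a • (H + H')) := fun a b =>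
    top_add_antisym hg (zsmul_mem (add_mem hH hH') _) (zsmul_mem (sub_mem hH hH') _) (hs4 a) (ha2 b)
  have e1 : (2 : ℤ) • (y • -H + z • -P hL (𝟙 A ^ n)) =
      (-(y + z * (n * n))) • (H + H') + (-(y + z * n)) • (H - H') := by
    rw [smul_add, smul_comm (2 : ℤ) z, smul_neg (2 : ℤ) (P hL _), hP]
    module
  have e2 : (2 : ℤ) • ((y + z * (n * n)) • -H) =
      (-(y + z * (n * n))) • (H + H') + (-(y + z * (n * n))) • (H - H') := by
    module
  have hm1 : y • -H + z • -P hL (𝟙 A ^ n) ∈ clRange A :=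
    add_mem (zsmul_mem (neg_mem hH) _) (zsmul_mem (neg_mem (P_mem hL _)) _)
  have hm2 : (y + z * (n * n)) • -H ∈ clRange A := zsmul_mem (neg_mem hH) _
  have h1 := top_zsmul hg hm1 2
  have h2 := top_zsmul hg hm2 2
  rw [e1, key] at h1
  rw [e2, key] at h2
  rw [← top_zsmul hg (neg_mem hH)]
  exact mul_left_cancel₀ (pow_ne_zero g (by norm_num)) (h1.symm.trans h2)

variable [A.left.Over (Spec (CommRingCat.of k))]

include hg in
/-- The mixed number of `L` and `[n]^* L`. -/
theorem N_mixed_top (hover : (A.left ↘ Spec (CommRingCat.of k)) = A.hom) {g' : ℕ} (hg' : g = g' + 1) (n : ℤ)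
    {M : A.left.Modules} (hM : PicF.IsInvertible M) (hM' : clA hM = P hL (𝟙 A ^ n)) :
    (IntFunLib.N k (L :: List.replicate g' M) (Coh.structureModule A.left) : ℚ) =
      (-1) ^ (g' + 1) * ((g' + 1)! : ℕ) * (((n * n : ℤ) : ℚ)) ^ g' * top A (g' + 1) (-clA hL) := by
  subst hg'
  haveI : IsProper (A.left ↘ Spec (CommRingCat.of k)) := hover ▸ ‹IsProper A.hom›
  let F : Fin (g' + 1) → A.left.Modules := Fin.cons L fun _ => M
  have hF : ∀ i, PicF.IsInvertible (F i) := Fin.cases hL fun _ => hM
  have hN : IntFunLib.N k (L :: List.replicate g' M) (Coh.structureModule A.left) =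
      (-1) ^ (g' + 1) * @FGA.intNum k _ A.left ⟨A.hom⟩ (g' + 1) (g' + 1) F (Coh.structureModule A.left) := by
    have h := IntFunLib.N_ofFn (k := k) hg.le F (Coh.structureModule A.left)
    have e : List.ofFn F = L :: List.replicate g' M := by
      rw [List.ofFn_succ]
      simp [F, List.ofFn_const]
    rw [e] at h
    rw [h]
    have hi : (⟨A.hom⟩ : A.left.Over (Spec (CommRingCat.of k))) = ‹_› := by
      cases ‹A.left.Over (Spec (CommRingCat.of k))› with
      | ofHom f => exact congrArg _ hover.symm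
    rw [hi]
  rw [hN]
  push_cast
  rw [intNum_eq_sum hg F hF, _root_.mul_assoc, _root_.mul_assoc]
  congr 1
  let x : Fin 3 → PicA A.left := ![0, -clA hL, -P hL (𝟙 A ^ n)]
  have hH : clA hL ∈ clRange A := ⟨_, hL, rfl⟩
  have hx : ∀ i, x i ∈ clRange A := fun i => by
    fin_cases i
    · exact zero_mem _
    · exact neg_mem hH
    · exact neg_mem (P_mem hL _)
  obtain ⟨Q, hQ, hQ'⟩ := exists_chiPoly hg hx
  let T := MvPolynomial.homogeneousComponent (g' + 1) Q
  have hTv : ∀ y : ℕ, MvPolynomial.eval ![0, (y : ℚ), 1] T =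
      ((y : ℚ) + ((n * n : ℤ) : ℚ)) ^ (g' + 1) * top A (g' + 1) (-clA hL) := fun y => by
    have h2 := top_plane hg hL n y 1
    push_cast at h2 ⊢
    rw [_root_.one_mul] at h2
    rw [← h2, ← coeff_aeval_line]
    refine (top_eq (natDegree_aeval_line Q _ hQ) fun m => ?_).symm
    have := hQ' ![0, (m : ℤ) * y, (m : ℤ)]
    simp only [x, Fin.sum_univ_three, Matrix.cons_val_zero, Matrix.cons_val_one, Matrix.cons_val, zero_zsmul, zero_add] at this
    rw [one_zsmul, smul_add, ← natCast_zsmul _ m, ← natCast_zsmul _ m, smul_smul, this, eval_aeval_line]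
    congr 2
    funext i
    fin_cases i <;> simp [_root_.mul_comm]
  have hc : Q.coeff (mix g') = (g' + 1 : ℕ) * ((n * n : ℤ) : ℚ) ^ g' * top A (g' + 1) (-clA hL) := by
    have h := coeff_mix_of_values g' T (MvPolynomial.homogeneousComponent_isHomogeneous _ _) _ _ hTv
    rw [← h]
    show _ = (MvPolynomial.homogeneousComponent (g' + 1) Q).coeff (mix g')
    rw [MvPolynomial.coeff_homogeneousComponent, if_pos (by rw [degree_three]; simp [mix]; ring)]
  have hs := sum_mixed g' Q hQ
  rw [hc] at hs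
  rw [Nat.factorial_succ, Nat.cast_mul]
  refine Eq.trans ?_ (hs.trans (by push_cast; ring))
  have hM0 : ∀ i : Fin (g' + 1), clA (hF i) = if i = 0 then clA hL else P hL (𝟙 A ^ n) := by
    refine Fin.cases ?_ fun i => ?_
    · rw [if_pos rfl]
    · rw [if_neg (Fin.succ_ne_zero i), ← hM']
  simp only [hM0]
  have hv : ∀ (b : ℕ) (c : ℕ), (chi A (b • clA hL + c • P hL (𝟙 A ^ n)) : ℚ) =
      MvPolynomial.eval ![0, -(b : ℚ), -(c : ℚ)] Q := fun b c => by
    have := hQ' ![0, -(b : ℤ), -(c : ℤ)]
    simp only [x, Fin.sum_univ_three, Matrix.cons_val_zero, Matrix.cons_val_one, Matrix.cons_val, zero_zsmul, zero_add,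
      neg_zsmul, smul_neg, neg_neg, natCast_zsmul] at this
    rw [this]
    congr 2
    funext i
    fin_cases i <;> simp
  have hins : (Finset.univ : Finset (Fin (g' + 1))) = insert 0 (Finset.univ.erase 0) :=
    (Finset.insert_erase (Finset.mem_univ 0)).symm
  rw [hins, Finset.sum_powerset_insert (Finset.notMem_erase _ _), ← Finset.sum_add_distrib,
    Finset.sum_congr rfl (g := fun I => (-1 : ℚ) ^ I.card *
      (MvPolynomial.eval ![0, 0, -(I.card : ℚ)] Q - MvPolynomial.eval ![0, -1, -(I.card : ℚ)] Q)) fun I hI => ?_]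
  · rw [Finset.sum_powerset_apply_card (fun c => (-1 : ℚ) ^ c *
        (MvPolynomial.eval ![0, 0, -(c : ℚ)] Q - MvPolynomial.eval ![0, -1, -(c : ℚ)] Q)),
      Finset.card_erase_of_mem (Finset.mem_univ _), Finset.card_univ, Fintype.card_fin]
    simp [nsmul_eq_mul]
  · have hI0 : (0 : Fin (g' + 1)) ∉ I := fun h => Finset.notMem_erase 0 _ (Finset.mem_powerset.1 hI h)
    have hs : ∑ i ∈ I, (if i = 0 then clA hL else P hL (𝟙 A ^ n)) = I.card • P hL (𝟙 A ^ n) :=
      (Finset.sum_congr rfl fun i hi => if_neg fun h => hI0 (by rw [← h]; exact hi)).trans (Finset.sum_const _)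
    have h0 := hv 0 I.card
    have h1 := hv 1 I.card
    simp only [zero_smul, one_smul, zero_add, Nat.cast_zero, Nat.cast_one, neg_zero] at h0 h1
    rw [Finset.sum_insert hI0, if_pos rfl, hs, Finset.card_insert_of_notMem hI0, h0, h1, pow_succ]
    ring

include hg hL in
/-- `(L · ([n]^*L)^(g-1)) = n^(2g-2) (L^g)`. -/
theorem N_mixed (hover : (A.left ↘ Spec (CommRingCat.of k)) = A.hom) {g' : ℕ} (hg' : g = g' + 1) (n : ℕ) :
    IntFunLib.N k (L :: List.replicate g' ((Scheme.Modules.pullback (𝟙 A ^ (n : ℤ)).left).obj L))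
        (Coh.structureModule A.left) =
      (n : ℤ) ^ (2 * g') * IntFunLib.N k (List.replicate g L) (Coh.structureModule A.left) := by
  have h1 := N_mixed_top hg hL hover hg' (n : ℤ) (AmpleDevLib.isInvertible_pb (𝟙 A ^ (n : ℤ)).left hL) (P_eq hL _).symm
  have h2 := N_mixed_top hg hL hover hg' 1 hL (by rw [zpow_one, P_id])
  subst hg'
  rw [← List.replicate_succ] at h2
  apply Int.cast_injective (α := ℚ)
  push_cast at h1 h2 ⊢
  rw [h1, h2, pow_mul]
  ring

end PtBoundLib
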