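import Groth.Agent.PtBoundLib.Count
import Groth.Agent.PtBoundLib.Coord
import Groth.Agent.PtBoundLib.Numeric
import Groth.Agent.AVAmpleLib.NonDegen
import Groth.Agent.AbSchLib.Flat
import Groth.Agent.AlbLib.AlgClosed
import Groth.Agent.CubeConsLib.GeomInt

/-!
# Torsion points on hypersurfaces
-/

set_option autoImplicit false
set_option linter.all false
set_option backward.isDefEq.respectTransparency false
set_option backward.isDefEq.respectTransparency.types false
set_option maxRecDepth 8000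
set_option maxHeartbeats 1000000
set_option synthInstance.maxHeartbeats 400000

universe u

open CategoryTheory CategoryTheory.Limits MonoidalCategory CartesianMonoidalCategory MonObj AlgebraicGeometry
open TopologicalSpace Opposite
open AVAmpleLib IntFunLib HilbPolyLib
open KFlatLib (pb puSec)
open TwistLib (genSet)

noncomputable section

namespace PtBoundLib

variable {k : Type u} [Field k] [IsAlgClosed k] {m : ℕ}

omit [IsAlgClosed k] in
/-- A form generates exactly off its hypersurface. -/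
theorem genSet_form {s : ℕ} (hL : PicF.IsInvertible (Twist.twist (CohB1.polyGrading m k) (s : ℤ)))
    (a : CohB1.polyGrading m k s) :
    genSet hL (show Γ(Twist.twist (CohB1.polyGrading m k) (s : ℤ), ⊤) from Twist.globalOf (CohB1.polyGrading m k) a) =
      Proj.basicOpen (CohB1.polyGrading m k) (a : MvPolynomial (Fin (m + 1)) k) := by
  ext x
  obtain ⟨i, hi⟩ := ProjDegLib.exists_chart m k x
  let g : TwistLib.Unit' (CohB1.polyGrading m k) (s : ℤ) (QCohLib.stdOpen m k i) :=
    ⟨s, 0, MvPolynomial.X i ^ s, 1, by simpa using SetLike.pow_mem_graded s (GradedCechLib.X_mem m k i),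
      SetLike.GradedOne.one_mem, by simp, fun y h => y.2 (y.1.isPrime.mem_of_pow_mem s h),
      fun y h => y.1.isPrime.ne_top ((Ideal.eq_top_iff_one _).mpr h)⟩
  exact TwistLib.genAt_globalOf (CohB1.polyGrading m k) a g hi

variable {A : Over (Spec (CommRingCat.of k))} [GrpObj A] [IsCommMonObj A] [IsProper A.hom]
  [GeometricallyIntegral A.hom] [IsIntegral A.left] [LocallyOfFinitePresentation A.hom] [Flat A.hom]
  [A.left.Over (Spec (CommRingCat.of k))]

omit [IsAlgClosed k] [GrpObj A] [IsCommMonObj A] [IsProper A.hom] [GeometricallyIntegral A.hom] [IsIntegral A.left]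
  [LocallyOfFinitePresentation A.hom] [Flat A.hom] in
/-- Numbers with a power of the twist. -/
theorem N_twist [IsProper (A.left ↘ Spec (CommRingCat.of k))] (φ : A.left ⟶ CohB1.ProjSpace m k)
    {l : List A.left.Modules} (hl : ∀ B ∈ l, PicF.IsInvertible B) {F : A.left.Modules} (hF : Coh.IsCoh F)
    (hd : topologicalKrullDim (CohB1.support F) ≤ (l.length + 1 : ℕ)) :
    ∀ s : ℕ, N k (pb φ (Twist.twistProjSpace m k (s : ℤ)) :: l) F =
      s * N k (pb φ (Twist.twistProjSpace m k 1) :: l) F
  | 0 => by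
    obtain ⟨e⟩ := PicPnLib.twist_zero m k
    rw [N, N_congr l (show CohB1.tensorMod (pb φ (Twist.twistProjSpace m k ((0 : ℕ) : ℤ))) F ≅ F from
      congrLeft ((Scheme.Modules.pullback φ).mapIso e ≪≫ KFlatLib.pullUnitIso φ) F ≪≫ unitLeft F)]
    simp
  | s + 1 => by
    obtain ⟨e⟩ := PicPnLib.twist_add m k (s : ℤ) 1
    haveI := KFlatLib.isIso_pullθ φ (Twist.twistProjSpace m k (s : ℤ)) (Twist.twistProjSpace m k 1)
    let e' : pb φ (Twist.twistProjSpace m k ((s + 1 : ℕ) : ℤ)) ≅
        CohB1.tensorMod (pb φ (Twist.twistProjSpace m k (s : ℤ))) (pb φ (Twist.twistProjSpace m k 1)) :=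
      (Scheme.Modules.pullback φ).mapIso e.symm ≪≫
        asIso (KFlatLib.pullθ φ (Twist.twistProjSpace m k (s : ℤ)) (Twist.twistProjSpace m k 1))
    rw [N, N_congr l (congrLeft e' F)]
    show N k (CohB1.tensorMod (pb φ (Twist.twistProjSpace m k (s : ℤ))) (pb φ (Twist.twistProjSpace m k 1)) :: l) F = _
    rw [N_tensor hl (AmpleDevLib.isInvertible_pb φ (PicPnLib.twist_inv m k _))
      (AmpleDevLib.isInvertible_pb φ (PicPnLib.twist_inv m k _)) hF hd, N_twist φ hl hF hd s]
    push_cast
    ring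

/-- **Torsion points on a hypersurface.** -/
theorem card_le {g : ℕ} (hg : topologicalKrullDim A.left = (g : ℕ))
    (hover : (A.left ↘ Spec (CommRingCat.of k)) = A.hom)
    (φ : A.left ⟶ CohB1.ProjSpace m k) [IsClosedImmersion φ]
    {s : ℕ} (F : MvPolynomial (Fin (m + 1)) k) (hF : F.IsHomogeneous s)
    (hnot : ∃ x : 𝟙_ (Over (Spec (CommRingCat.of k))) ⟶ A,
      φ (pt x) ∈ Proj.basicOpen (CohB1.polyGrading m k) F)
    (n : ℕ) (hn : 1 ≤ n) :
    (Nat.card {x : 𝟙_ (Over (Spec (CommRingCat.of k))) ⟶ A //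
        x ^ n = 1 ∧ φ (pt x) ∉ Proj.basicOpen (CohB1.polyGrading m k) F} : ℤ) ≤
      (n : ℤ) ^ (2 * g - 2) * s * N k (List.replicate g (pb φ (Twist.twistProjSpace m k 1))) (Coh.structureModule A.left) := by
  classical
  haveI : IsProper (A.left ↘ Spec (CommRingCat.of k)) := hover ▸ ‹IsProper A.hom›
  haveI : IsLocallyNoetherian A.left := LocallyOfFiniteType.isLocallyNoetherian A.hom
  haveI : JacobsonSpace A.left := LocallyOfFiniteType.jacobsonSpace A.hom
  haveI : IsSeparated A.hom := inferInstance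
  let L : A.left.Modules := pb φ (Twist.twistProjSpace m k 1)
  have hL : PicF.IsInvertible L := AmpleDevLib.isInvertible_pb φ (PicPnLib.twist_inv m k 1)
  let hm : CohB1.polyGrading m k s := ⟨F, (MvPolynomial.mem_homogeneousSubmodule _ _).2 hF⟩
  have hO := PicPnLib.twist_inv m k (s : ℤ)
  let σ : Γ(pb φ (Twist.twistProjSpace m k (s : ℤ)), ⊤) :=
    puSec φ (show Γ(Twist.twistProjSpace m k (s : ℤ), ⊤) from Twist.globalOf (CohB1.polyGrading m k) hm)
  have hσ : genSet (AmpleDevLib.isInvertible_pb φ hO) σ = φ ⁻¹ᵁ Proj.basicOpen (CohB1.polyGrading m k) F := by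
    rw [AmpleDevLib.genSet_puSec φ hO]
    exact congrArg (φ ⁻¹ᵁ ·) (genSet_form (m := m) hO hm)
  obtain ⟨x₀, hx₀⟩ := hnot
  have hgenσ : genericPoint A.left ∈ genSet (AmpleDevLib.isInvertible_pb φ hO) σ := by
    rw [hσ]
    exact ((genericPoint_spec A.left).mem_open_set_iff (φ ⁻¹ᵁ Proj.basicOpen _ F).2).mpr ⟨pt x₀, trivial, hx₀⟩
  let u : A.left ⟶ A.left := (𝟙 A ^ (n : ℤ)).left
  haveI : IsFinite u := isFinite_zpow A (by omega)
  let e : A.left := pt (1 : 𝟙_ (Over (Spec (CommRingCat.of k))) ⟶ A)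
  let M : A.left.Modules := pb u L
  have hM : PicF.IsInvertible M := AmpleDevLib.isInvertible_pb u hL
  have hfin : (u ⁻¹' {e}).Finite := u.finite_preimage_singleton e
  let S : Finset A.left := (hfin.inter_of_left {z | φ z ∉ Proj.basicOpen (CohB1.polyGrading m k) F}).toFinset
  have hS : ∀ z, z ∈ S ↔ u z = e ∧ φ z ∉ Proj.basicOpen (CohB1.polyGrading m k) F := fun z => Set.Finite.mem_toFinset _
  have hcard : Nat.card {x : 𝟙_ (Over (Spec (CommRingCat.of k))) ⟶ A //
      x ^ n = 1 ∧ φ (pt x) ∉ Proj.basicOpen (CohB1.polyGrading m k) F} ≤ S.card := by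
    have hu : ∀ x : 𝟙_ (Over (Spec (CommRingCat.of k))) ⟶ A, x ^ n = 1 → u (pt x) = e := fun x hx => by
      change (𝟙 A ^ (n : ℤ)).left (pt x) = pt 1
      rw [← pt_comp, GrpObj.comp_zpow, Category.comp_id, zpow_natCast, hx]
    rw [← Nat.card_eq_finsetCard S]
    refine Nat.card_le_card_of_injective (fun x => ⟨pt x.1, (hS _).2 ⟨hu _ x.2.1, x.2.2⟩⟩) fun a b h => ?_
    exact Subtype.ext (pt_injective (congrArg Subtype.val h))
  have hec : IsClosed ({e} : Set A.left) :=
    AlbLib.isClosed_pt (1 : 𝟙_ (Over (Spec (CommRingCat.of k))) ⟶ A) _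
  have hgen : topologicalKrullDim (closure ({genericPoint A.left} : Set A.left)) = (g : WithBot ℕ∞) := by
    rw [(genericPoint_spec A.left).def, (Homeomorph.Set.univ _).isHomeomorph.topologicalKrullDim_eq, hg]
  rcases Nat.eq_zero_or_pos g with rfl | hpos
  · have hall : ∀ z : A.left, z = genericPoint A.left := fun z =>
      eq_of_dim_zero (k := k) hgen (by rw [(genericPoint_spec A.left).def]; trivial)
    have : IsEmpty {x : 𝟙_ (Over (Spec (CommRingCat.of k))) ⟶ A //
        x ^ n = 1 ∧ φ (pt x) ∉ Proj.basicOpen (CohB1.polyGrading m k) F} := ⟨fun x => x.2.2 <| by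
      rw [hall (pt x.1), ← hall (pt x₀)]; exact hx₀⟩
    rw [Nat.card_of_isEmpty]
    have h0 : 0 < Curv2.euler k A.left (Coh.structureModule A.left) :=
      IntMultLib.euler_pos_of_dim_zero (DevissLib.isCoh_structureModule _) (by
        rw [AVAmpleLib.support_structureModule, (Homeomorph.Set.univ _).isHomeomorph.topologicalKrullDim_eq, hg])
    rw [List.replicate_zero, N]
    positivity
  obtain ⟨g', rfl⟩ : ∃ g', g = g' + 1 := ⟨g - 1, by omega⟩
  have hsec : ∀ ξ : A.left, ((1 : ℕ) : WithBot ℕ∞) ≤ topologicalKrullDim (closure ({ξ} : Set A.left)) →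
      ∃ τ : Γ(M, ⊤), ξ ∈ genSet hM τ ∧ ∀ z ∈ S, z ∉ genSet hM τ := by
    intro ξ hξ
    have hqe : u ξ ≠ e := fun hq => by
      have hsub : closure ({ξ} : Set A.left) ⊆ u ⁻¹' {e} :=
        closure_minimal (Set.singleton_subset_iff.mpr hq) (hec.preimage u.continuous)
      have hcl : IsClosed ({ξ} : Set A.left) := by
        have h1 : closure (closure ({ξ} : Set A.left) ∩ closedPoints A.left) = closure {ξ} :=
          closure_inter_closedPoints isClosed_closure
        have h2 : IsClosed (closure ({ξ} : Set A.left) ∩ closedPoints A.left) := by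
          rw [← Set.biUnion_of_singleton (closure ({ξ} : Set A.left) ∩ closedPoints A.left)]
          exact ((hfin.subset hsub).inter_of_left _).isClosed_biUnion fun z hz => hz.2
        rw [h2.closure_eq] at h1
        exact (h1.ge (subset_closure rfl)).2
      rw [hcl.closure_eq] at hξ
      exact absurd (hξ.trans (topologicalKrullDim_zero_of_discreteTopology _)) (by norm_num)
    obtain ⟨p, ⟨hpq, hpe⟩, hpc⟩ := nonempty_inter_closedPoints
      (show (closure ({u ξ} : Set A.left) ∩ {e}ᶜ).Nonempty from ⟨u ξ, subset_closure rfl, hqe⟩)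
      (isClosed_closure.isLocallyClosed.inter hec.isOpen_compl.isLocallyClosed)
    have hφc : ∀ z : A.left, IsClosed ({z} : Set A.left) → IsClosed ({φ z} : Set (CohB1.ProjSpace m k)) := fun z hz => by
      simpa using φ.isClosedEmbedding.isClosedMap _ hz
    obtain ⟨c, hce, hcp⟩ := ProjDegLib.exists_separating m k (hφc e hec) (hφc p hpc)
      fun h => hpe (φ.isClosedEmbedding.injective h).symm
    let σc : Γ(L, ⊤) := puSec φ (ProjDegLib.sec m k c)
    have hσc : ∀ z, z ∈ genSet hL σc ↔ ¬ ProjDegLib.Van m k c (φ z) := fun z => by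
      rw [AmpleDevLib.genSet_puSec φ (PicPnLib.twist_inv m k 1)]
      exact genAt_sec_iff m k c (φ z)
    refine ⟨puSec u σc, ?_, fun z hz h => ?_⟩
    · rw [AmpleDevLib.genSet_puSec u hL]
      exact (specializes_iff_mem_closure.mpr hpq).mem_open (genSet hL σc).2 ((hσc p).2 hcp)
    · rw [AmpleDevLib.genSet_puSec u hL] at h
      have h' : u z ∈ genSet hL σc := h
      rw [((hS z).1 hz).1] at h'
      exact (hσc e).1 h' hce
  have hstep := card_le_step (k := k) (X := A.left) hg (AmpleDevLib.isInvertible_pb φ hO) hM σ hgenσ S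
    (fun z hz => by rw [hσ]; exact ((hS z).1 hz).2) (fun ξ hξ => ncard_le g' A.left hM S hsec ξ hξ)
  have hdim : topologicalKrullDim (CohB1.support (Coh.structureModule A.left)) ≤
      (((List.replicate g' M).length + 1 : ℕ) : WithBot ℕ∞) := by
    rw [List.length_replicate, ← hg]
    exact topologicalKrullDim_subspace_le _ _
  rw [N_twist φ (fun B hB => by rw [List.eq_of_mem_replicate hB]; exact hM) (DevissLib.isCoh_structureModule _) hdim s,
    N_mixed hg hL hover rfl n] at hstep
  refine le_trans (Int.ofNat_le.2 hcard) (hstep.trans (le_of_eq ?_))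
  rw [show 2 * (g' + 1) - 2 = 2 * g' by omega]
  ring

/-- On a point nothing lies on a hypersurface missing some point. -/
theorem card_eq_zero (hg : topologicalKrullDim A.left = (0 : ℕ))
    (hover : (A.left ↘ Spec (CommRingCat.of k)) = A.hom)
    (φ : A.left ⟶ CohB1.ProjSpace m k) (U : (CohB1.ProjSpace m k).Opens)
    (hnot : ∃ x : 𝟙_ (Over (Spec (CommRingCat.of k))) ⟶ A, φ (pt x) ∈ U) (n : ℕ) :
    Nat.card {x : 𝟙_ (Over (Spec (CommRingCat.of k))) ⟶ A // x ^ n = 1 ∧ φ (pt x) ∉ U} = 0 := by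
  haveI : IsProper (A.left ↘ Spec (CommRingCat.of k)) := hover ▸ ‹IsProper A.hom›
  obtain ⟨x₀, hx₀⟩ := hnot
  have hgen : topologicalKrullDim (closure ({genericPoint A.left} : Set A.left)) = ((0 : ℕ) : WithBot ℕ∞) := by
    rw [(genericPoint_spec A.left).def, (Homeomorph.Set.univ _).isHomeomorph.topologicalKrullDim_eq, hg]
  have hall : ∀ z : A.left, z = genericPoint A.left := fun z =>
    eq_of_dim_zero (k := k) hgen (by rw [(genericPoint_spec A.left).def]; trivial)
  have : IsEmpty {x : 𝟙_ (Over (Spec (CommRingCat.of k))) ⟶ A // x ^ n = 1 ∧ φ (pt x) ∉ U} :=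
    ⟨fun x => x.2.2 <| by rw [hall (pt x.1), ← hall (pt x₀)]; exact hx₀⟩
  exact Nat.card_of_isEmpty

/-- The dimension of an abelian scheme over a field. -/
theorem dim_eq {A : Over (Spec (CommRingCat.of k))} {g : ℕ}
    (h : ∀ s : Spec (CommRingCat.of k), topologicalKrullDim ↥(A.hom.fiber s) = g) :
    topologicalKrullDim A.left = (g : ℕ) := by
  rw [← h (IsLocalRing.closedPoint k)]
  refine (((A.hom.fiberι _).isEmbedding.toHomeomorph.trans ((Homeomorph.setCongr ?_).trans
    (Homeomorph.Set.univ _))).isHomeomorph.topologicalKrullDim_eq).symm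
  rw [Scheme.Hom.range_fiberι]
  exact Set.eq_univ_iff_forall.2 fun z => (Subsingleton.elim (α := PrimeSpectrum k) _ _)

end PtBoundLib

end
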